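import Cfsg.Agent.H389.NR.Fr
import Cfsg.Agent.H390.TwoGraph
import Cfsg.Agent.H376.SpEmb
import Cfsg.Agent.LieClassical.SympCenter
import Cfsg.Agent.LieClassical.SympCount

/-!
# S3440: the groups `PSp_{2m}(q)` do not satisfy `Fr` (helper181)

`m ≥ 3`: an element of order 5 of `Sp_4(q)` and an element of order 3 of `Sp_2(q)` give an element of order 15.
`m = 2`: helper390's `psp2_fifteen` (`5 ∤ q ^ 2 + 1`) and `psp2_graph` (`5 ∣ q ^ 2 + 1`: no element of order 10).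
-/

set_option autoImplicit false

namespace Cfsg.Agent.H181.NR

open Cfsg.Agent.H389.JSq (Has)
open Cfsg.Agent.H389.NR (Fr)

theorem sq_eq_one_of_center {F : Type*} [Field F] {m : ℕ} (hm : 1 ≤ m) {z : Matrix.symplecticGroup (Fin m) F}
    (hz : z ∈ Subgroup.center (Matrix.symplecticGroup (Fin m) F)) : z ^ 2 = 1 := by
  obtain ⟨a, ha⟩ := (Cfsg.Agent.LieClassical.SympCenter.mem_center_iff m z).mp hz
  have h1 := z.2
  rw [ha] at h1
  have h2 := Cfsg.Agent.LieClassical.SympCenter.sq_eq_one_of_smul_mem hm h1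
  apply Subtype.ext
  show (z.1 ^ 2 : Matrix _ _ F) = 1
  rw [ha, pow_two, smul_mul_smul_comm, h2, one_mul, one_smul]

/-- elements of odd order in the quotient -/
theorem has_psp {F : Type*} [Field F] [Finite F] {m n : ℕ} (hm : 1 ≤ m) (hn : Odd n)
    {C : Matrix.symplecticGroup (Fin m) F} (hC : orderOf C = n) : Has (Cfsg.PSp m F) n := by
  have : Finite (Matrix.symplecticGroup (Fin m) F) := Subtype.finite
  have : Finite (Cfsg.PSp m F) := Quotient.finite _
  let x : Cfsg.PSp m F := QuotientGroup.mk C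
  refine Has.of_dvd_orderOf (g := x) ?_
  have h1 : (QuotientGroup.mk (C ^ orderOf x) : Cfsg.PSp m F) = 1 := by
    rw [QuotientGroup.mk_pow]
    exact pow_orderOf_eq_one x
  have h2 : C ^ orderOf x ∈ Subgroup.center (Matrix.symplecticGroup (Fin m) F) :=
    (QuotientGroup.eq_one_iff _).mp h1
  have h3 := sq_eq_one_of_center hm h2
  rw [← pow_mul] at h3
  have h4 := orderOf_dvd_of_pow_eq_one h3
  rw [hC] at h4
  exact (Nat.Coprime.dvd_mul_right (Nat.Coprime.symm (Nat.coprime_two_left.mpr hn))).mp h4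

theorem five_dvd (q : ℕ) (hq : 1 ≤ q) : 5 ∣ q ^ 4 * (q ^ 4 - 1) := by
  have h : (q ^ 4 - 1 + 1) = q ^ 4 := Nat.sub_add_cancel (Nat.one_le_pow _ _ hq)
  generalize q ^ 4 - 1 = r at h
  rw [← h]
  have h5 : q ^ 4 % 5 = 0 ∨ q ^ 4 % 5 = 1 := by
    have : q % 5 = 0 ∨ q % 5 = 1 ∨ q % 5 = 2 ∨ q % 5 = 3 ∨ q % 5 = 4 := by omega
    rcases this with h | h | h | h | h <;> simp [Nat.pow_mod, h]
  rcases h5 with h5 | h5
  · exact Dvd.dvd.mul_right (Nat.dvd_of_mod_eq_zero (by omega)) _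
  · exact Dvd.dvd.mul_left (Nat.dvd_of_mod_eq_zero (by omega)) _

theorem three_dvd (q : ℕ) (hq : 1 ≤ q) : 3 ∣ q * (q ^ 2 - 1) := by
  have h : (q ^ 2 - 1 + 1) = q ^ 2 := Nat.sub_add_cancel (Nat.one_le_pow _ _ hq)
  generalize q ^ 2 - 1 = r at h
  have h3 : q % 3 = 0 ∨ q % 3 = 1 ∨ q % 3 = 2 := by omega
  rcases h3 with h3 | h3 | h3
  · exact Dvd.dvd.mul_right (Nat.dvd_of_mod_eq_zero h3) _
  · have h4 : q ^ 2 % 3 = 1 := by simp [Nat.pow_mod, h3]
    exact Dvd.dvd.mul_left (Nat.dvd_of_mod_eq_zero (by omega)) _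
  · have h4 : q ^ 2 % 3 = 1 := by simp [Nat.pow_mod, h3]
    exact Dvd.dvd.mul_left (Nat.dvd_of_mod_eq_zero (by omega)) _

theorem has_fifteen {F : Type*} [Field F] [Fintype F] {m : ℕ} (hm : 3 ≤ m) : Has (Cfsg.PSp m F) 15 := by
  have hq : 1 ≤ Fintype.card F := Fintype.card_pos
  have i5 : Fact (Nat.Prime 5) := ⟨by norm_num⟩
  have i3 : Fact (Nat.Prime 3) := ⟨by norm_num⟩
  have f2 : Finite (Matrix.symplecticGroup (Fin 2) F) := Subtype.finite
  have f1 : Finite (Matrix.symplecticGroup (Fin 1) F) := Subtype.finite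
  obtain ⟨A, hA⟩ : ∃ A : Matrix.symplecticGroup (Fin 2) F, orderOf A = 5 := by
    refine exists_prime_orderOf_dvd_card' 5 ?_
    rw [Cfsg.Agent.LieClassical.SympCount.card_symplecticGroup]
    simp only [Finset.prod_range_succ, Finset.prod_range_zero, one_mul]
    norm_num
    rw [mul_comm (Fintype.card F ^ 2 - 1), ← mul_assoc]
    exact Dvd.dvd.mul_right (five_dvd _ hq) _
  obtain ⟨B, hB⟩ : ∃ B : Matrix.symplecticGroup (Fin 1) F, orderOf B = 3 := by
    refine exists_prime_orderOf_dvd_card' 3 ?_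
    rw [Cfsg.Agent.LieClassical.SympCount.card_symplecticGroup]
    simp only [Finset.prod_range_succ, Finset.prod_range_zero, one_mul]
    norm_num
    exact three_dvd _ hq
  obtain ⟨C, hC⟩ := Cfsg.Agent.H376.SpEmb.exists_block (n := m) (a := 2) (b := 1) hm A hA B hB
  exact has_psp (by omega) (by decide) hC

/-- **The row `PSp`.** -/
theorem fr_psp {L : Type*} [Group L] [Finite L] (h : Cfsg.IsPSp L) : ¬ Fr L := by
  obtain ⟨F, hF1, hF2, m, hm, hq, ⟨e⟩⟩ := h
  intro hFr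
  have hFr' := hFr.congr e
  have : Finite (Matrix.symplecticGroup (Fin m) F) := Subtype.finite
  have : Finite (Cfsg.PSp m F) := Quotient.finite _
  rcases Nat.lt_or_ge 2 m with h3 | h3
  · exact hFr'.fifteen (has_fifteen h3)
  · obtain rfl : m = 2 := le_antisymm h3 hm
    by_cases h5 : 5 ∣ Nat.card F ^ 2 + 1
    · obtain ⟨g, hg⟩ := hFr'.ten
      obtain ⟨g2, hg2⟩ := hFr'.six
      have h2 : 2 ∣ Nat.card (Cfsg.PSp 2 F) :=
        (show (2 : ℕ) ∣ 6 by norm_num).trans (hg2 ▸ orderOf_dvd_natCard g2)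
      exact Cfsg.Agent.H390.psp2_graph (hq rfl) (by norm_num : Nat.Prime 5) (by norm_num) h5 Nat.prime_two h2
        (fun hh => hh.1 rfl) g (by rw [hg])
    · obtain ⟨g, hg⟩ := Cfsg.Agent.H390.psp2_fifteen (hq rfl) h5
      exact hFr'.fifteen ⟨g, hg⟩

end Cfsg.Agent.H181.NR
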